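import Cfsg.Agent.CosetEnum.Lower

/-! Generated coset enumeration certificate: Fischer quadrangle groups, FiveC. -/

set_option autoImplicit false
set_option maxRecDepth 100000

namespace CfsgLib.FischerGQ.Cert.FiveC

open CfsgLib.CosetEnum

noncomputable def epFLeaf (c : ℕ) : ℕ :=
  0x60000000001ff0000000001c600007000037f0000700003450000d00004bf0000d00004840000f000053f0000f00005030001600005bf0001700006410001900006440001600006450001100005c10001600005c30001400005830000f00005040001200005010000f00004850001200004810000d00004430000b00003c40000d00003c50000a00003460000d00003450000700002c20000a00002c40000900002840000700002420000700001c10000700001c600000000000500000000000400000000000300000000000200000000000100000000000000000000003f00000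

/-- table entries -/
noncomputable def epF (i : ℕ) : ℕ :=
  ((epFLeaf (i >>> 9)) >>> (48 * (i % 512))) % 281474976710656

noncomputable def nodeFLeaf (c : ℕ) : ℕ :=
  0x0

/-- table entries -/
noncomputable def nodeF (i : ℕ) : ℕ :=
  ((nodeFLeaf (i >>> 10)) >>> (20 * (i % 1024))) % 1048576

noncomputable def TFLeaf (c : ℕ) : ℕ :=
  0x0

/-- table entries -/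
noncomputable def TF (i : ℕ) : ℕ :=
  ((TFLeaf (i >>> 10)) >>> (20 * (i % 1024))) % 1048576

noncomputable def tfFLeaf (c : ℕ) : ℕ :=
  0x4a00000c00000a000008000006000004000002

/-- table entries -/
noncomputable def tfF (i : ℕ) : ℕ :=
  ((tfFLeaf (i >>> 10)) >>> (24 * (i % 1024))) % 16777216

noncomputable def parFLeaf (c : ℕ) : ℕ :=
  0x0

/-- table entries -/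
noncomputable def parF (i : ℕ) : ℕ :=
  ((parFLeaf (i >>> 10)) >>> (32 * (i % 1024))) % 4294967296

/-- the words: relators, then generators of the subgroup -/
def words : List (List ℕ) := [[0, 0], [1, 1], [2, 2], [3, 3], [4, 4], [5, 5], [0, 1, 0, 1, 0, 1], [0, 2, 0, 2], [0, 3, 0, 3], [0, 4, 0, 4], [0, 5, 0, 5], [1, 2, 1, 2, 1, 2], [1, 3, 1, 3], [1, 4, 1, 4], [1, 5, 1, 5, 1, 5], [2, 3, 2, 3, 2, 3], [2, 4, 2, 4], [2, 5, 2, 5], [3, 4, 3, 4, 3, 4], [3, 5, 3, 5, 3, 5], [4, 5, 4, 5], [1, 2, 1, 0, 1, 0, 5, 0, 1, 0, 1, 2, 1, 0, 2, 4, 5], [6, 6], [6, 0, 6, 0], [6, 1, 6, 1], [6, 2, 6, 2, 6, 2], [6, 3, 6, 3, 6, 3], [6, 4, 6, 4, 6, 4], [6, 5, 6, 5, 6, 5], [6, 1, 0, 1, 6, 1, 0, 1], [6, 2, 1, 2, 6, 2, 1,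 2, 6, 2, 1, 2], [6, 5, 1, 5, 6, 5, 1, 5, 6, 5, 1, 5], [6, 3, 2, 3, 6, 3, 2, 3, 6, 3, 2, 3], [6, 4, 3, 4, 6, 4, 3, 4, 6, 4, 3, 4], [6, 5, 3, 5, 6, 5, 3, 5, 6, 5, 3, 5], [6, 2, 1, 0, 1, 2, 6, 2, 1, 0, 1, 2, 6, 2, 1, 0, 1, 2], [6, 5, 1, 0, 1, 5, 6, 5, 1, 0, 1, 5, 6, 5, 1, 0, 1, 5], [6, 3, 2, 1, 2, 3, 6, 3, 2, 1, 2, 3, 6, 3, 2, 1, 2, 3], [6, 5, 2, 1, 2, 5, 6, 5, 2, 1, 2, 5, 6, 5, 2, 1, 2, 5], [6, 3, 5, 1, 5, 3, 6, 3, 5, 1, 5, 3, 6, 3, 5, 1, 5, 3], [6, 4, 3, 2, 3, 4, 6, 4, 3, 2, 3, 4, 6, 4, 3, 2, 3, 4], [6, 5, 3, 2, 3, 5, 6, 5, 3, 2, 3, 5, 6, 5, 3, 2, 3, 5], [6, 5, 4, 3, 4, 5, 6, 5, 4, 3, 4, 5, 6, 5, 4, 3, 4, 5], [6, 3, 2, 1, 0, 1, 2, 3, 6, 3, 2, 1, 0, 1, 2, 3, 6, 3, 2, 1, 0, 1, 2, 3], [6, 5, 2,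 1, 0, 1, 2, 5, 6, 5, 2, 1, 0, 1, 2, 5, 6, 5, 2, 1, 0, 1, 2, 5], [6, 3, 5, 1, 0, 1, 5, 3, 6, 3, 5, 1, 0, 1, 5, 3, 6, 3, 5, 1, 0, 1, 5, 3], [6, 4, 3, 2, 1, 2, 3, 4, 6, 4, 3, 2, 1, 2, 3, 4, 6, 4, 3, 2, 1, 2, 3, 4], [6, 5, 3, 2, 1, 2, 3, 5, 6, 5, 3, 2, 1, 2, 3, 5], [6, 3, 5, 2, 1, 2, 5, 3, 6, 3, 5, 2, 1, 2, 5, 3, 6, 3, 5, 2, 1, 2, 5, 3], [6, 2, 3, 5, 1, 5, 3, 2, 6, 2, 3, 5, 1, 5, 3, 2, 6, 2, 3, 5, 1, 5, 3, 2], [6, 4, 3, 5, 1, 5, 3, 4, 6, 4, 3, 5, 1, 5, 3, 4, 6, 4, 3, 5, 1, 5, 3, 4], [6, 5, 4, 3, 2, 3, 4, 5, 6, 5, 4, 3, 2, 3, 4, 5, 6, 5, 4, 3, 2, 3, 4, 5], [6, 1, 5, 3, 2, 3, 5, 1, 6, 1, 5, 3, 2, 3, 5, 1, 6, 1, 5, 3, 2, 3, 5, 1], [6, 4, 3, 2, 1, 0, 1, 2, 3, 4, 6, 4, 3, 2, 1, 0, 1, 2, 3, 4, 6, 4, 3,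 2, 1, 0, 1, 2, 3, 4], [6, 5, 3, 2, 1, 0, 1, 2, 3, 5, 6, 5, 3, 2, 1, 0, 1, 2, 3, 5], [6, 1, 5, 2, 1, 0, 1, 2, 5, 1, 6, 1, 5, 2, 1, 0, 1, 2, 5, 1, 6, 1, 5, 2, 1, 0, 1, 2, 5, 1], [6, 3, 5, 2, 1, 0, 1, 2, 5, 3, 6, 3, 5, 2, 1, 0, 1, 2, 5, 3, 6, 3, 5, 2, 1, 0, 1, 2, 5, 3], [6, 2, 3, 5, 1, 0, 1, 5, 3, 2, 6, 2, 3, 5, 1, 0, 1, 5, 3, 2, 6, 2, 3, 5, 1, 0, 1, 5, 3, 2], [6, 4, 3, 5, 1, 0, 1, 5, 3, 4, 6, 4, 3, 5, 1, 0, 1, 5, 3, 4, 6, 4, 3, 5, 1, 0, 1, 5, 3, 4], [6, 5, 4, 3, 2, 1, 2, 3, 4, 5, 6, 5, 4, 3, 2, 1, 2, 3, 4, 5, 6, 5, 4, 3, 2, 1, 2, 3, 4, 5], [6, 1, 5, 3, 2, 1, 2, 3, 5, 1, 6, 1, 5, 3, 2, 1, 2, 3, 5, 1], [6, 3, 5, 3, 2, 1, 2, 3, 5, 3, 6, 3, 5, 3, 2, 1, 2, 3, 5, 3, 6, 3, 5, 3, 2, 1, 2, 3, 5, 3], [6,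 4, 3, 5, 2, 1, 2, 5, 3, 4, 6, 4, 3, 5, 2, 1, 2, 5, 3, 4, 6, 4, 3, 5, 2, 1, 2, 5, 3, 4], [6, 4, 2, 3, 5, 1, 5, 3, 2, 4, 6, 4, 2, 3, 5, 1, 5, 3, 2, 4], [6, 5, 4, 3, 2, 1, 0, 1, 2, 3, 4, 5, 6, 5, 4, 3, 2, 1, 0, 1, 2, 3, 4, 5, 6, 5, 4, 3, 2, 1, 0, 1, 2, 3, 4, 5], [6, 1, 5, 3, 2, 1, 0, 1, 2, 3, 5, 1, 6, 1, 5, 3, 2, 1, 0, 1, 2, 3, 5, 1], [6, 3, 5, 3, 2, 1, 0, 1, 2, 3, 5, 3, 6, 3, 5, 3, 2, 1, 0, 1, 2, 3, 5, 3, 6, 3, 5, 3, 2, 1, 0, 1, 2, 3, 5, 3], [6, 2, 3, 5, 2, 1, 0, 1, 2, 5, 3, 2, 6, 2, 3, 5, 2, 1, 0, 1, 2, 5, 3, 2], [2, 4, 6, 4, 2, 3, 5, 4, 3, 4, 5, 6, 5, 4, 3, 4, 5, 3], [1, 0, 1, 0, 1, 0], [2, 0, 2, 0], [3, 0, 3, 0], [4, 0, 4, 0], [5, 0, 5, 0], [2, 1, 2, 1, 2, 1], [3, 1, 3, 1], [4, 1, 4, 1], [5,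 1, 5, 1, 5, 1], [3, 2, 3, 2, 3, 2], [4, 2, 4, 2], [5, 2, 5, 2], [4, 3, 4, 3, 4, 3], [5, 3, 5, 3, 5, 3], [5, 4, 5, 4], [5, 4, 2, 0, 1, 2, 1, 0, 1, 0, 5, 0, 1, 0, 1, 2, 1], [0, 6, 0, 6], [1, 6, 1, 6], [2, 6, 2, 6, 2, 6], [3, 6, 3, 6, 3, 6], [4, 6, 4, 6, 4, 6], [5, 6, 5, 6, 5, 6], [1, 0, 1, 6, 1, 0, 1, 6], [2, 1, 2, 6, 2, 1, 2, 6, 2, 1, 2, 6], [5, 1, 5, 6, 5, 1, 5, 6, 5, 1, 5, 6], [3, 2, 3, 6, 3, 2, 3, 6, 3, 2, 3, 6], [4, 3, 4, 6, 4, 3, 4, 6, 4, 3, 4, 6], [5, 3, 5, 6, 5, 3, 5, 6, 5, 3, 5, 6], [2, 1, 0, 1, 2, 6, 2, 1, 0, 1, 2, 6, 2, 1, 0, 1, 2, 6], [5, 1, 0, 1, 5, 6, 5, 1, 0, 1, 5, 6, 5, 1, 0, 1, 5, 6], [3, 2, 1, 2, 3, 6, 3, 2, 1, 2, 3, 6, 3, 2, 1, 2, 3, 6], [5, 2, 1, 2, 5, 6, 5, 2, 1, 2, 5, 6,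 5, 2, 1, 2, 5, 6], [3, 5, 1, 5, 3, 6, 3, 5, 1, 5, 3, 6, 3, 5, 1, 5, 3, 6], [4, 3, 2, 3, 4, 6, 4, 3, 2, 3, 4, 6, 4, 3, 2, 3, 4, 6], [5, 3, 2, 3, 5, 6, 5, 3, 2, 3, 5, 6, 5, 3, 2, 3, 5, 6], [5, 4, 3, 4, 5, 6, 5, 4, 3, 4, 5, 6, 5, 4, 3, 4, 5, 6], [3, 2, 1, 0, 1, 2, 3, 6, 3, 2, 1, 0, 1, 2, 3, 6, 3, 2, 1, 0, 1, 2, 3, 6], [5, 2, 1, 0, 1, 2, 5, 6, 5, 2, 1, 0, 1, 2, 5, 6, 5, 2, 1, 0, 1, 2, 5, 6], [3, 5, 1, 0, 1, 5, 3, 6, 3, 5, 1, 0, 1, 5, 3, 6, 3, 5, 1, 0, 1, 5, 3, 6], [4, 3, 2, 1, 2, 3, 4, 6, 4, 3, 2, 1, 2, 3, 4, 6, 4, 3, 2, 1, 2, 3, 4, 6], [5, 3, 2, 1, 2, 3, 5, 6, 5, 3, 2, 1, 2, 3, 5, 6], [3, 5, 2, 1, 2, 5, 3, 6, 3, 5, 2, 1, 2, 5, 3, 6, 3, 5, 2, 1, 2, 5, 3, 6], [2, 3, 5, 1, 5, 3, 2, 6, 2, 3, 5, 1,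 5, 3, 2, 6, 2, 3, 5, 1, 5, 3, 2, 6], [4, 3, 5, 1, 5, 3, 4, 6, 4, 3, 5, 1, 5, 3, 4, 6, 4, 3, 5, 1, 5, 3, 4, 6], [5, 4, 3, 2, 3, 4, 5, 6, 5, 4, 3, 2, 3, 4, 5, 6, 5, 4, 3, 2, 3, 4, 5, 6], [1, 5, 3, 2, 3, 5, 1, 6, 1, 5, 3, 2, 3, 5, 1, 6, 1, 5, 3, 2, 3, 5, 1, 6], [4, 3, 2, 1, 0, 1, 2, 3, 4, 6, 4, 3, 2, 1, 0, 1, 2, 3, 4, 6, 4, 3, 2, 1, 0, 1, 2, 3, 4, 6], [5, 3, 2, 1, 0, 1, 2, 3, 5, 6, 5, 3, 2, 1, 0, 1, 2, 3, 5, 6], [1, 5, 2, 1, 0, 1, 2, 5, 1, 6, 1, 5, 2, 1, 0, 1, 2, 5, 1, 6, 1, 5, 2, 1, 0, 1, 2, 5, 1, 6], [3, 5, 2, 1, 0, 1, 2, 5, 3, 6, 3, 5, 2, 1, 0, 1, 2, 5, 3, 6, 3, 5, 2, 1, 0, 1, 2, 5, 3, 6], [2, 3, 5, 1, 0, 1, 5, 3, 2, 6, 2, 3, 5, 1, 0, 1, 5, 3, 2, 6, 2, 3, 5, 1, 0, 1, 5, 3, 2, 6], [4, 3, 5, 1,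 0, 1, 5, 3, 4, 6, 4, 3, 5, 1, 0, 1, 5, 3, 4, 6, 4, 3, 5, 1, 0, 1, 5, 3, 4, 6], [5, 4, 3, 2, 1, 2, 3, 4, 5, 6, 5, 4, 3, 2, 1, 2, 3, 4, 5, 6, 5, 4, 3, 2, 1, 2, 3, 4, 5, 6], [1, 5, 3, 2, 1, 2, 3, 5, 1, 6, 1, 5, 3, 2, 1, 2, 3, 5, 1, 6], [3, 5, 3, 2, 1, 2, 3, 5, 3, 6, 3, 5, 3, 2, 1, 2, 3, 5, 3, 6, 3, 5, 3, 2, 1, 2, 3, 5, 3, 6], [4, 3, 5, 2, 1, 2, 5, 3, 4, 6, 4, 3, 5, 2, 1, 2, 5, 3, 4, 6, 4, 3, 5, 2, 1, 2, 5, 3, 4, 6], [4, 2, 3, 5, 1, 5, 3, 2, 4, 6, 4, 2, 3, 5, 1, 5, 3, 2, 4, 6], [5, 4, 3, 2, 1, 0, 1, 2, 3, 4, 5, 6, 5, 4, 3, 2, 1, 0, 1, 2, 3, 4, 5, 6, 5, 4, 3, 2, 1, 0, 1, 2, 3, 4, 5, 6], [1, 5, 3, 2, 1, 0, 1, 2, 3, 5, 1, 6, 1, 5, 3, 2, 1, 0, 1, 2, 3, 5, 1, 6], [3, 5, 3, 2, 1, 0, 1, 2, 3, 5, 3, 6,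 3, 5, 3, 2, 1, 0, 1, 2, 3, 5, 3, 6, 3, 5, 3, 2, 1, 0, 1, 2, 3, 5, 3, 6], [2, 3, 5, 2, 1, 0, 1, 2, 5, 3, 2, 6, 2, 3, 5, 2, 1, 0, 1, 2, 5, 3, 2, 6], [3, 5, 4, 3, 4, 5, 6, 5, 4, 3, 4, 5, 3, 2, 4, 6, 4, 2], [0], [1], [2], [3], [4], [5]]

/-- the certificate -/
noncomputable def cert : CertData where
  L := 7
  n := 1
  iv := fun x => x
  words := words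
  nr := 131
  ep := epF
  node := nodeF
  T := TF
  tf := tfF

/-- parents in the table -/
noncomputable def par : ℕ → ℕ := parF

end CfsgLib.FischerGQ.Cert.FiveC
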